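/-
Helper14 library (FlatStage): descent of a flat finitely presented module over a finitely presented
algebra to a finite type `ℤ`-algebra (ingredients).
-/
import Groth.Agent.Lib.Helper14.FlatStage.Interface

set_option autoImplicit false
universe u
open TensorProduct

attribute [local instance] MvPolynomial.algebraMvPolynomial

namespace Groth.Agent.Lib.Helper10.FSC

open Groth.Agent.Lib.Helper14.FlatStage

/-- base change along the other side of a pushout square. -/
theorem isBaseChange_of_isPushout' {R₀ R S₀ S : Type*} [CommRing R₀] [CommRing R] [CommRing S₀]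
    [CommRing S] [Algebra R₀ R] [Algebra R₀ S₀] [Algebra R₀ S] [Algebra S₀ S] [Algebra R S]
    [IsScalarTower R₀ S₀ S] [IsScalarTower R₀ R S] [Algebra.IsPushout R₀ R S₀ S]
    {M₀ M : Type*} [AddCommGroup M₀] [AddCommGroup M] [Module R₀ M₀] [Module S₀ M₀]
    [IsScalarTower R₀ S₀ M₀]
    [Module S₀ M] [Module S M] [IsScalarTower S₀ S M] [Module R₀ M] [Module R M]
    [IsScalarTower R₀ S₀ M] [IsScalarTower R S M] [IsScalarTower R₀ R M]
    (f : M₀ →ₗ[S₀] M) (hf : IsBaseChange R (f.restrictScalars R₀)) : IsBaseChange S f := by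
  have hcomp : ∀ t : R ⊗[R₀] M₀, f.liftBaseChange S
      ((Algebra.IsPushout.cancelBaseChange R₀ R S₀ S M₀).symm t) = hf.equiv t := by
    intro t
    induction t with
    | zero => simp
    | add x y hx hy => rw [map_add, map_add, hx, hy, map_add]
    | tmul r m =>
      rw [Algebra.IsPushout.cancelBaseChange_symm_tmul, LinearMap.liftBaseChange_tmul,
        hf.equiv_tmul, algebraMap_smul]
      rfl
  have hbij : Function.Bijective (f.liftBaseChange S) := by
    have : (f.liftBaseChange S : S ⊗[S₀] M₀ → M) =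
        hf.equiv ∘ (Algebra.IsPushout.cancelBaseChange R₀ R S₀ S M₀) := by
      funext t
      rw [Function.comp_apply, ← hcomp, LinearEquiv.symm_apply_apply]
    rw [this]
    exact hf.equiv.bijective.comp (Algebra.IsPushout.cancelBaseChange R₀ R S₀ S M₀).bijective
  exact IsBaseChange.of_equiv (LinearEquiv.ofBijective (f.liftBaseChange S) hbij)
    (fun m => by simp)

theorem exists_presentation' (R S M : Type u) [CommRing R] [CommRing S] [Algebra R S]
    [Algebra.FinitePresentation R S] [AddCommGroup M] [Module S M] [Module R M]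
    [IsScalarTower R S M] [Module.FinitePresentation S M] :
    ∃ (n : ℕ) (π : MvPolynomial (Fin n) R →ₐ[R] S) (m : ℕ)
      (fk : Fin m → MvPolynomial (Fin n) R) (b e : ℕ) (ℓ : Fin e → Fm n b R)
      (ε : Fm n b R →ₗ[R] M),
      Function.Surjective π ∧ Ideal.span (Set.range fk) = RingHom.ker π.toRingHom ∧
      Function.Surjective ε ∧ (∀ p v, ε (p • v) = π p • ε v) ∧
      (∀ v, ε v = 0 ↔ v ∈ Submodule.span (MvPolynomial (Fin n) R) (Set.range ℓ)) := by
  obtain ⟨n, π, hπ, hker⟩ := Algebra.FinitePresentation.out (R := R) (A := S)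
  obtain ⟨m, fk, hfk⟩ := Submodule.fg_iff_exists_fin_generating_family.1 hker
  letI : Algebra (MvPolynomial (Fin n) R) S := π.toRingHom.toAlgebra
  letI : Module (MvPolynomial (Fin n) R) M := Module.compHom M π.toRingHom
  haveI : IsScalarTower (MvPolynomial (Fin n) R) S M :=
    ⟨fun p c m => by
      show (π p * c) • m = π p • (c • m)
      exact mul_smul _ _ _⟩
  haveI : IsScalarTower R (MvPolynomial (Fin n) R) M :=
    ⟨fun a p m => by
      show π (a • p) • m = a • (π p • m)
      rw [map_smul, smul_assoc]⟩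
  haveI : Module.FinitePresentation (MvPolynomial (Fin n) R) S := by
    refine Module.finitePresentation_of_surjective
      (Algebra.linearMap (MvPolynomial (Fin n) R) S) hπ ?_
    exact hker
  haveI : Module.FinitePresentation (MvPolynomial (Fin n) R) M :=
    Module.FinitePresentation.trans (MvPolynomial (Fin n) R) M S
  obtain ⟨b, K, eK, hK⟩ := Module.FinitePresentation.exists_fin (MvPolynomial (Fin n) R) M
  obtain ⟨e, ℓ, hℓ⟩ := Submodule.fg_iff_exists_fin_generating_family.1 hK
  subst hℓ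
  refine ⟨n, π, m, fk, b, e, ℓ,
    ((eK.symm.toLinearMap ∘ₗ (Submodule.span (MvPolynomial (Fin n) R) (Set.range ℓ)).mkQ)).restrictScalars R,
    hπ, hfk, ?_, ?_, ?_⟩
  · exact eK.symm.surjective.comp (Submodule.mkQ_surjective _)
  · intro p v
    show (eK.symm.toLinearMap ∘ₗ (Submodule.span (MvPolynomial (Fin n) R) (Set.range ℓ)).mkQ)
      (p • v) = _
    rw [map_smul]
    rfl
  · intro v
    show eK.symm ((Submodule.span (MvPolynomial (Fin n) R) (Set.range ℓ)).mkQ v) = 0 ↔ _
    rw [LinearEquiv.map_eq_zero_iff, Submodule.mkQ_apply, Submodule.Quotient.mk_eq_zero]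


theorem exists_coeff_ring₂ (A₀ : Type u) [CommRing A₀] {n b : ℕ} {κ₁ κ₂ : Type} [Fintype κ₁]
    [Fintype κ₂] (ℓ : κ₁ → Fm n b A₀) (fk : κ₂ → MvPolynomial (Fin n) A₀) :
    ∃ R₀ : Subalgebra ℤ A₀, R₀.FG ∧
      (∃ L : κ₁ → Fm n b R₀, ∀ j, mapF n b R₀ A₀ (L j) = ℓ j) ∧
      (∃ f0 : κ₂ → MvPolynomial (Fin n) R₀,
        ∀ k, MvPolynomial.map (algebraMap R₀ A₀) (f0 k) = fk k) := by
  classical
  let S : Finset A₀ := (Finset.univ.biUnion (fun j : κ₁ =>
    Finset.univ.biUnion (fun i : Fin b => (ℓ j i).coeffs))) ∪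
    Finset.univ.biUnion (fun k : κ₂ => (fk k).coeffs)
  refine ⟨Algebra.adjoin ℤ (S : Set A₀), Subalgebra.fg_adjoin_finset S, ?_, ?_⟩
  · have h : ∀ j i, ∃ p : MvPolynomial (Fin n) (Algebra.adjoin ℤ (S : Set A₀)),
        MvPolynomial.map (algebraMap (Algebra.adjoin ℤ (S : Set A₀)) A₀) p = ℓ j i := by
      intro j i
      apply MvPolynomial.mem_range_map_iff_coeffs_subset.2
      intro c hc
      have hcS : c ∈ S := by
        simp only [S, Finset.mem_union, Finset.mem_biUnion, Finset.mem_univ, true_and]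
        exact Or.inl ⟨j, i, hc⟩
      exact ⟨⟨c, Algebra.subset_adjoin hcS⟩, rfl⟩
    choose L hL using h
    exact ⟨L, fun j => funext (fun i => hL j i)⟩
  · have h : ∀ k, ∃ p : MvPolynomial (Fin n) (Algebra.adjoin ℤ (S : Set A₀)),
        MvPolynomial.map (algebraMap (Algebra.adjoin ℤ (S : Set A₀)) A₀) p = fk k := by
      intro k
      apply MvPolynomial.mem_range_map_iff_coeffs_subset.2
      intro c hc
      have hcS : c ∈ S := by
        simp only [S, Finset.mem_union, Finset.mem_biUnion, Finset.mem_univ, true_and]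
        exact Or.inr ⟨k, hc⟩
      exact ⟨⟨c, Algebra.subset_adjoin hcS⟩, rfl⟩
    choose f0 hf0 using h
    exact ⟨f0, hf0⟩


section Gen

theorem isBaseChange_equiv_comp {R S : Type*} [CommRing R] [CommRing S] [Algebra R S]
    {M N N' : Type*} [AddCommGroup M] [AddCommGroup N] [AddCommGroup N'] [Module R M] [Module R N]
    [Module S N] [IsScalarTower R S N] [Module R N'] [Module S N'] [IsScalarTower R S N']
    {f : M →ₗ[R] N} (hf : IsBaseChange S f) (e : N ≃ₗ[S] N') :
    IsBaseChange S ((e.toLinearMap.restrictScalars R) ∘ₗ f) :=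
  IsBaseChange.of_equiv (hf.equiv ≪≫ₗ e) (fun m => by simp [hf.equiv_tmul])

variable {R P : Type*} [CommRing R] [CommRing P] [Algebra R P]
  {F M : Type*} [AddCommGroup F] [AddCommGroup M] [Module R F] [Module P F] [IsScalarTower R P F]
  [Module R M]

/-- the quotient by a submodule which is the kernel of a surjective map -/
noncomputable def quotEquivOfKer (K : Submodule P F) (ε : F →ₗ[R] M) (hε : Function.Surjective ε)
    (hker : ∀ v, ε v = 0 ↔ v ∈ K) : (F ⧸ K) ≃ₗ[R] M :=
  (Submodule.Quotient.restrictScalarsEquiv R K).symm ≪≫ₗ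
    Submodule.quotEquivOfEq _ _ (by
      ext v
      rw [Submodule.restrictScalars_mem, LinearMap.mem_ker, hker]) ≪≫ₗ
    ε.quotKerEquivOfSurjective hε

theorem quotEquivOfKer_mk (K : Submodule P F) (ε : F →ₗ[R] M) (hε : Function.Surjective ε)
    (hker : ∀ v, ε v = 0 ↔ v ∈ K) (v : F) :
    quotEquivOfKer K ε hε hker (Submodule.Quotient.mk v) = ε v := rfl

end Gen

section Aug
variable {R₁ : Type u} [CommRing R₁] {n b m : ℕ} {κ₁ : Type} (L' : κ₁ → Fm n b R₁)
  (f0 : Fin m → MvPolynomial (Fin n) R₁)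

/-- the relations `L'` together with the multiples `f0 k • e_i` -/
noncomputable def Laug : κ₁ ⊕ (Fin m × Fin b) → Fm n b R₁ :=
  Sum.elim L' (fun ki => Pi.single ki.2 (f0 ki.1))

variable (D : Type u) [CommRing D] [Algebra R₁ D]

theorem genm_aug_inl (j : κ₁) : genm (Laug L' f0) D (Sum.inl j) = mapF n b R₁ D (L' j) := rfl

theorem genm_aug_inr (k : Fin m) (i : Fin b) :
    genm (Laug L' f0) D (Sum.inr (k, i)) =
      Pi.single i (MvPolynomial.map (algebraMap R₁ D) (f0 k)) := by
  funext i'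
  show MvPolynomial.map (algebraMap R₁ D) ((Pi.single i (f0 k) : Fm n b R₁) i') = _
  by_cases h : i' = i
  · subst h
    rw [Pi.single_eq_same, Pi.single_eq_same]
  · rw [Pi.single_eq_of_ne h, Pi.single_eq_of_ne h, map_zero]

theorem smul_mem_Km_aug (p : MvPolynomial (Fin n) D)
    (hp : p ∈ Ideal.span (Set.range (fun k => MvPolynomial.map (algebraMap R₁ D) (f0 k))))
    (v : Fm n b D) : p • v ∈ Km (Laug L' f0) D := by
  classical
  induction hp using Submodule.span_induction with
  | mem x hx =>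
    obtain ⟨k, rfl⟩ := hx
    have : MvPolynomial.map (algebraMap R₁ D) (f0 k) • v =
        ∑ i, v i • genm (Laug L' f0) D (Sum.inr (k, i)) := by
      funext i'
      rw [Finset.sum_apply]
      rw [Finset.sum_eq_single i']
      · rw [genm_aug_inr, Pi.smul_apply, Pi.smul_apply, Pi.single_eq_same, smul_eq_mul,
          smul_eq_mul, mul_comm]
      · intro i _ hne
        rw [genm_aug_inr, Pi.smul_apply, Pi.single_eq_of_ne hne.symm, smul_zero]
      · intro h
        exact absurd (Finset.mem_univ i') h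
    rw [this]
    exact Submodule.sum_mem _ (fun i _ => Submodule.smul_mem _ _
      (Submodule.subset_span ⟨Sum.inr (k, i), rfl⟩))
  | zero => rw [zero_smul]; exact zero_mem _
  | add x y _ _ hx hy => rw [add_smul]; exact add_mem hx hy
  | smul a x _ hx => rw [smul_eq_mul, mul_smul]; exact Submodule.smul_mem _ _ hx

end Aug

section Asm
variable {R₁ : Type u} [CommRing R₁] {n b m : ℕ} {κ₁ : Type} (L' : κ₁ → Fm n b R₁)
  (f0 : Fin m → MvPolynomial (Fin n) R₁)

/-- the ideal generated by the images of `f0` -/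
noncomputable def ID (D : Type u) [CommRing D] [Algebra R₁ D] : Ideal (MvPolynomial (Fin n) D) :=
  Ideal.span (Set.range (fun k => MvPolynomial.map (algebraMap R₁ D) (f0 k)))

theorem isTorsion_aug (D : Type u) [CommRing D] [Algebra R₁ D] :
    Module.IsTorsionBySet (MvPolynomial (Fin n) D) (Mm (Laug L' f0) D)
      (ID f0 D : Set (MvPolynomial (Fin n) D)) := by
  rintro x ⟨p, hp⟩
  obtain ⟨v, rfl⟩ := Submodule.Quotient.mk_surjective _ x
  show p • Submodule.Quotient.mk v = 0
  rw [← Submodule.Quotient.mk_smul, Submodule.Quotient.mk_eq_zero]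
  exact smul_mem_Km_aug L' f0 D p hp v

variable (C R : Type u) [CommRing C] [CommRing R] [Algebra R₁ C] [Algebra R₁ R] [Algebra C R]
  [IsScalarTower R₁ C R]

theorem map_mem_ID (p : MvPolynomial (Fin n) C) (hp : p ∈ ID f0 C) :
    MvPolynomial.map (algebraMap C R) p ∈ ID f0 R := by
  have hle : ID f0 C ≤ (ID f0 R).comap (MvPolynomial.map (algebraMap C R)) := by
    unfold ID
    rw [Ideal.span_le]
    rintro _ ⟨k, rfl⟩
    rw [SetLike.mem_coe, Ideal.mem_comap, MvPolynomial.map_map, ← IsScalarTower.algebraMap_eq]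
    exact Ideal.subset_span ⟨k, rfl⟩
  exact hle hp

/-- `C[x]/I_C → R[x]/I_R` is a base change along `C[x] → R[x]`, hence along `C → R`. -/
theorem isBaseChange_quot_ID :
    IsBaseChange R ((quotMap (Algebra.linearMap (MvPolynomial (Fin n) C) (MvPolynomial (Fin n) R))
      (ID f0 C) (ID f0 R) (map_mem_ID f0 C R)).restrictScalars C) := by
  refine isBaseChange_of_isPushout (R := C) (S := R) (A := MvPolynomial (Fin n) C)
    (B := MvPolynomial (Fin n) R) _ ?_
  refine isBaseChange_quotMap _ (IsBaseChange.linearMap _ _) _ _ _ ?_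
  unfold ID
  rw [Ideal.span, Submodule.span_le]
  rintro _ ⟨k, rfl⟩
  refine Submodule.subset_span ⟨MvPolynomial.map (algebraMap R₁ C) (f0 k),
    Ideal.subset_span ⟨k, rfl⟩, ?_⟩
  show MvPolynomial.map (algebraMap C R) _ = _
  rw [MvPolynomial.map_map, ← IsScalarTower.algebraMap_eq]

variable {S : Type u} [CommRing S] [Algebra R S]
  (π : MvPolynomial (Fin n) R →ₐ[R] S) (hπ : Function.Surjective π)
  (hker : ∀ p, π p = 0 ↔ p ∈ ID f0 R)

/-- `C[x]/I_C → S`, as a ring homomorphism -/
noncomputable def toS : (MvPolynomial (Fin n) C ⧸ ID f0 C) →+* S :=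
  Ideal.Quotient.lift (ID f0 C) (π.toRingHom.comp (MvPolynomial.map (algebraMap C R)))
    (fun p hp => (hker _).2 (map_mem_ID f0 C R p hp))

theorem toS_mk (p : MvPolynomial (Fin n) C) :
    toS f0 C R π hker (Ideal.Quotient.mk _ p) = π (MvPolynomial.map (algebraMap C R) p) :=
  rfl

variable [Algebra C S] [IsScalarTower C R S]

/-- `C[x]/I_C → S`, as a linear map -/
noncomputable def toSlin : (MvPolynomial (Fin n) C ⧸ ID f0 C) →ₗ[C] S :=
  ((quotEquivOfKer (ID f0 R) π.toLinearMap hπ hker).toLinearMap.restrictScalars C) ∘ₗ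
    ((quotMap (Algebra.linearMap (MvPolynomial (Fin n) C) (MvPolynomial (Fin n) R))
      (ID f0 C) (ID f0 R) (map_mem_ID f0 C R)).restrictScalars C)

theorem toSlin_mk (p : MvPolynomial (Fin n) C) :
    toSlin f0 C R π hπ hker (Ideal.Quotient.mk _ p) = π (MvPolynomial.map (algebraMap C R) p) :=
  rfl

theorem isBaseChange_toSlin : IsBaseChange R (toSlin f0 C R π hπ hker) :=
  isBaseChange_equiv_comp (isBaseChange_quot_ID f0 C R) _


variable {M : Type u} [AddCommGroup M] [Module S M] [Module R M] [IsScalarTower R S M]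
  [Module C M] [IsScalarTower C R M] [IsScalarTower C S M]
  (ε : Fm n b R →ₗ[R] M) (hε : Function.Surjective ε) (hεsmul : ∀ p v, ε (p • v) = π p • ε v)
  (hεker : ∀ v, ε v = 0 ↔ v ∈ Km (Laug L' f0) R)

include hπ hεsmul hker hε hεker in
theorem exists_int_model_aux (hfin : Algebra.FiniteType ℤ C)
    (hflat : Module.Flat C (Mm (Laug L' f0) C)) :
    ∃ (R₀ : Type u) (_ : CommRing R₀) (_ : Algebra R₀ R) (S₀ : Type u) (_ : CommRing S₀)
      (_ : Algebra R₀ S₀) (_ : Algebra S₀ S) (_ : Algebra R₀ S) (_ : IsScalarTower R₀ R S)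
      (_ : IsScalarTower R₀ S₀ S) (M₀ : Type u) (_ : AddCommGroup M₀) (_ : Module S₀ M₀)
      (_ : Module R₀ M₀) (_ : IsScalarTower R₀ S₀ M₀) (_ : Module S₀ M) (_ : IsScalarTower S₀ S M)
      (f : M₀ →ₗ[S₀] M),
      Algebra.FiniteType ℤ R₀ ∧ Algebra.FiniteType R₀ S₀ ∧ Module.Finite S₀ M₀ ∧
        Module.Flat R₀ M₀ ∧ Algebra.IsPushout R₀ R S₀ S ∧ IsBaseChange S f := by
  letI algS₀S : Algebra (MvPolynomial (Fin n) C ⧸ ID f0 C) S := (toS f0 C R π hker).toAlgebra
  haveI tower1 : IsScalarTower C (MvPolynomial (Fin n) C ⧸ ID f0 C) S := by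
    exact IsScalarTower.of_algebraMap_eq (R := C) (S := MvPolynomial (Fin n) C ⧸ ID f0 C)
      (A := S) (fun c => by
      show algebraMap C S c = π (MvPolynomial.map (algebraMap C R) (MvPolynomial.C c))
      rw [MvPolynomial.map_C, ← MvPolynomial.algebraMap_eq, π.commutes,
        ← IsScalarTower.algebraMap_apply])
  have hpush : Algebra.IsPushout C R (MvPolynomial (Fin n) C ⧸ ID f0 C) S := by
    have heq : (IsScalarTower.toAlgHom C (MvPolynomial (Fin n) C ⧸ ID f0 C) S).toLinearMap =
        toSlin f0 C R π hπ hker := by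
      refine LinearMap.ext (fun x => ?_)
      obtain ⟨p, rfl⟩ := Ideal.Quotient.mk_surjective x
      rfl
    exact ⟨heq ▸ isBaseChange_toSlin f0 C R π hπ hker⟩
  have htors := isTorsion_aug L' f0 C
  letI modS₀ : Module (MvPolynomial (Fin n) C ⧸ ID f0 C) (Mm (Laug L' f0) C) := htors.module
  haveI tow2 : IsScalarTower (MvPolynomial (Fin n) C) (MvPolynomial (Fin n) C ⧸ ID f0 C)
      (Mm (Laug L' f0) C) := htors.isScalarTower
  have hmk : ∀ (p : MvPolynomial (Fin n) C) (x : Mm (Laug L' f0) C),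
      (Ideal.Quotient.mk (ID f0 C) p) • x = p • x := fun p x => rfl
  haveI tow3 : IsScalarTower C (MvPolynomial (Fin n) C ⧸ ID f0 C) (Mm (Laug L' f0) C) :=
    ⟨fun c s x => by
      obtain ⟨p, rfl⟩ := Ideal.Quotient.mk_surjective s
      have : c • (Ideal.Quotient.mk (ID f0 C) p) = Ideal.Quotient.mk (ID f0 C) (c • p) := rfl
      rw [this, hmk, hmk, smul_assoc]⟩
  letI modS₀M : Module (MvPolynomial (Fin n) C ⧸ ID f0 C) M :=
    Module.compHom M (algebraMap (MvPolynomial (Fin n) C ⧸ ID f0 C) S)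
  haveI tow4 : IsScalarTower (MvPolynomial (Fin n) C ⧸ ID f0 C) S M :=
    ⟨fun s₀ s x => by
      show (algebraMap (MvPolynomial (Fin n) C ⧸ ID f0 C) S s₀ * s) • x =
        algebraMap (MvPolynomial (Fin n) C ⧸ ID f0 C) S s₀ • (s • x)
      exact mul_smul _ _ _⟩
  haveI tow5 : IsScalarTower C (MvPolynomial (Fin n) C ⧸ ID f0 C) M :=
    ⟨fun c s₀ x => by
      show algebraMap (MvPolynomial (Fin n) C ⧸ ID f0 C) S (c • s₀) • x =
        c • (algebraMap (MvPolynomial (Fin n) C ⧸ ID f0 C) S s₀ • x)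
      have h1 : c • s₀ = algebraMap C (MvPolynomial (Fin n) C ⧸ ID f0 C) c * s₀ :=
        Algebra.smul_def c s₀
      rw [h1, map_mul,
        ← IsScalarTower.algebraMap_apply C (MvPolynomial (Fin n) C ⧸ ID f0 C) S, mul_smul,
        algebraMap_smul]⟩
  let εbar : Mm (Laug L' f0) R ≃ₗ[R] M := quotEquivOfKer (Km (Laug L' f0) R) ε hε hεker
  let f₀ : Mm (Laug L' f0) C →ₗ[C] M :=
    (εbar.toLinearMap.restrictScalars C) ∘ₗ ((mapM (Laug L' f0) C R).restrictScalars C)
  have hf₀ : IsBaseChange R f₀ := isBaseChange_equiv_comp (isBaseChange_mapM (Laug L' f0) C R) εbar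
  let f : Mm (Laug L' f0) C →ₗ[MvPolynomial (Fin n) C ⧸ ID f0 C] M :=
    { toFun := f₀
      map_add' := f₀.map_add
      map_smul' := by
        intro s x
        obtain ⟨p, rfl⟩ := Ideal.Quotient.mk_surjective s
        obtain ⟨v, rfl⟩ := Submodule.Quotient.mk_surjective _ x
        rw [hmk, ← Submodule.Quotient.mk_smul]
        show ε (mapF n b C R (p • v)) = π (MvPolynomial.map (algebraMap C R) p) •
          ε (mapF n b C R v)
        rw [map_smul, ← hεsmul]
        rfl }
  have hfS : IsBaseChange S f := isBaseChange_of_isPushout' f hf₀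
  refine ⟨C, inferInstance, inferInstance, MvPolynomial (Fin n) C ⧸ ID f0 C, inferInstance,
    inferInstance, algS₀S, inferInstance, inferInstance, tower1, Mm (Laug L' f0) C, inferInstance,
    modS₀, inferInstance, tow3, modS₀M, tow4, f, hfin, ?_, ?_, hflat, hpush, hfS⟩
  · exact Algebra.FiniteType.of_surjective (Ideal.Quotient.mkₐ C (ID f0 C))
      Ideal.Quotient.mk_surjective
  · exact Module.Finite.of_restrictScalars_finite (MvPolynomial (Fin n) C) _ _

end Asm

end Groth.Agent.Lib.Helper10.FSC
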