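/-
Helper14 library (FlatStage): a flat finitely presented algebra descends to a finite type
`ℤ`-algebra (with flatness).
-/
import Groth.Agent.Lib.Helper10.FSC.IntModel

set_option autoImplicit false
universe u
open TensorProduct

attribute [local instance] MvPolynomial.algebraMvPolynomial

namespace Groth.Agent.Lib.Helper10.FSC

open Groth.Agent.Lib.Helper14.FlatStage

section AlgModel
variable {R₁ : Type u} [CommRing R₁] {n m : ℕ} (f0 : Fin m → MvPolynomial (Fin n) R₁)

/-- for `b = 1` and no module relations, the model module is the quotient ring. -/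
noncomputable def mmAugEquivQuot (L' : Fin 0 → Fm n 1 R₁) (D : Type u) [CommRing D] [Algebra R₁ D] :
    Mm (Laug L' f0) D ≃ₗ[MvPolynomial (Fin n) D] (MvPolynomial (Fin n) D ⧸ ID f0 D) :=
  Submodule.Quotient.equiv (Km (Laug L' f0) D) (ID f0 D)
    (LinearEquiv.funUnique (Fin 1) (MvPolynomial (Fin n) D) (MvPolynomial (Fin n) D)) (by
      unfold Km ID
      rw [Submodule.map_span, Ideal.span]
      congr 1
      ext x
      constructor
      · rintro ⟨_, ⟨j, rfl⟩, rfl⟩
        rcases j with j | ⟨k, i⟩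
        · exact j.elim0
        · refine ⟨k, ?_⟩
          rw [genm_aug_inr]
          have hi : i = 0 := Subsingleton.elim _ _
          subst hi
          simp
      · rintro ⟨k, rfl⟩
        refine ⟨_, ⟨Sum.inr (k, 0), rfl⟩, ?_⟩
        rw [genm_aug_inr]
        simp)

variable (L' : Fin 0 → Fm n 1 R₁)
variable (C R : Type u) [CommRing C] [CommRing R] [Algebra R₁ C] [Algebra R₁ R] [Algebra C R]
  [IsScalarTower R₁ C R]
variable {T : Type u} [CommRing T] [Algebra R T] [Algebra C T] [IsScalarTower C R T]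
  (π : MvPolynomial (Fin n) R →ₐ[R] T) (hπ : Function.Surjective π)
  (hker : ∀ p, π p = 0 ↔ p ∈ ID f0 R)

include hπ hker in
theorem exists_flat_int_model_algebra_aux (hfin : Algebra.FiniteType ℤ C)
    (hflat : Module.Flat C (Mm (Laug L' f0) C)) :
    ∃ (R₀ : Type u) (_ : CommRing R₀) (_ : Algebra R₀ R) (T₀ : Type u) (_ : CommRing T₀)
      (_ : Algebra R₀ T₀) (_ : Algebra T₀ T) (_ : Algebra R₀ T) (_ : IsScalarTower R₀ R T)
      (_ : IsScalarTower R₀ T₀ T),
      Algebra.FiniteType ℤ R₀ ∧ Algebra.FiniteType R₀ T₀ ∧ Module.Flat R₀ T₀ ∧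
        Algebra.IsPushout R₀ R T₀ T := by
  have hflT₀ : Module.Flat C (MvPolynomial (Fin n) C ⧸ ID f0 C) :=
    Module.Flat.of_linearEquiv ((mmAugEquivQuot f0 L' C).restrictScalars C).symm
  letI algT₀T : Algebra (MvPolynomial (Fin n) C ⧸ ID f0 C) T := (toS f0 C R π hker).toAlgebra
  haveI tower1 : IsScalarTower C (MvPolynomial (Fin n) C ⧸ ID f0 C) T := by
    exact IsScalarTower.of_algebraMap_eq (R := C) (S := MvPolynomial (Fin n) C ⧸ ID f0 C)
      (A := T) (fun c => by
      show algebraMap C T c = π (MvPolynomial.map (algebraMap C R) (MvPolynomial.C c))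
      rw [MvPolynomial.map_C, ← MvPolynomial.algebraMap_eq, π.commutes,
        ← IsScalarTower.algebraMap_apply])
  have hpush : Algebra.IsPushout C R (MvPolynomial (Fin n) C ⧸ ID f0 C) T := by
    have heq : (IsScalarTower.toAlgHom C (MvPolynomial (Fin n) C ⧸ ID f0 C) T).toLinearMap =
        toSlin f0 C R π hπ hker := by
      refine LinearMap.ext (fun x => ?_)
      obtain ⟨p, rfl⟩ := Ideal.Quotient.mk_surjective x
      rfl
    exact ⟨heq ▸ isBaseChange_toSlin f0 C R π hπ hker⟩
  refine ⟨C, inferInstance, inferInstance, MvPolynomial (Fin n) C ⧸ ID f0 C, inferInstance,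
    inferInstance, algT₀T, inferInstance, inferInstance, tower1, hfin, ?_, hflT₀, hpush⟩
  exact Algebra.FiniteType.of_surjective (Ideal.Quotient.mkₐ C (ID f0 C))
    Ideal.Quotient.mk_surjective

end AlgModel

/-- a flat finitely presented algebra descends to a finite type `ℤ`-algebra, keeping flatness. -/
theorem exists_flat_int_model_algebra (R T : Type u) [CommRing R] [CommRing T] [Algebra R T]
    [Algebra.FinitePresentation R T] [Module.Flat R T] :
    ∃ (R₀ : Type u) (_ : CommRing R₀) (_ : Algebra R₀ R) (T₀ : Type u) (_ : CommRing T₀)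
      (_ : Algebra R₀ T₀) (_ : Algebra T₀ T) (_ : Algebra R₀ T) (_ : IsScalarTower R₀ R T)
      (_ : IsScalarTower R₀ T₀ T),
      Algebra.FiniteType ℤ R₀ ∧ Algebra.FiniteType R₀ T₀ ∧ Module.Flat R₀ T₀ ∧
        Algebra.IsPushout R₀ R T₀ T := by
  classical
  obtain ⟨n, π, hπ, hkerfg⟩ := Algebra.FinitePresentation.out (R := R) (A := T)
  obtain ⟨m, fk, hfk⟩ := Submodule.fg_iff_exists_fin_generating_family.1 hkerfg
  obtain ⟨R₁, hR₁, ⟨L', -⟩, ⟨f0, hf0⟩⟩ :=
    exists_coeff_ring₂ R (n := n) (b := 1) (fun j : Fin 0 => j.elim0) fk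
  haveI : Algebra.FiniteType ℤ R₁ := (Subalgebra.fg_iff_finiteType R₁).1 hR₁
  haveI : IsNoetherianRing R₁ := Algebra.FiniteType.isNoetherianRing ℤ R₁
  have hID : ID f0 R = Ideal.span (Set.range fk) := by
    unfold ID
    congr 2
    funext k
    exact hf0 k
  have hker : ∀ p, π p = 0 ↔ p ∈ ID f0 R := by
    intro p
    rw [hID]
    change _ ↔ p ∈ Submodule.span _ _
    rw [hfk]
    rfl
  have hflat : Module.Flat R (Mm (Laug L' f0) R) := by
    haveI : Module.Flat R (MvPolynomial (Fin n) R ⧸ ID f0 R) :=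
      Module.Flat.of_linearEquiv (quotEquivOfKer (ID f0 R) π.toLinearMap hπ hker)
    exact Module.Flat.of_linearEquiv ((mmAugEquivQuot f0 L' R).restrictScalars R)
  obtain ⟨C, hC, hflC⟩ := exists_fg_flat (Laug L' f0) R hflat
  have hfin : Algebra.FiniteType ℤ C := by
    haveI : Algebra.FiniteType R₁ C := (Subalgebra.fg_iff_finiteType C).1 hC
    exact Algebra.FiniteType.trans (S := R₁) inferInstance inferInstance
  exact exists_flat_int_model_algebra_aux f0 L' C R π hπ hker hfin hflC

end Groth.Agent.Lib.Helper10.FSC
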